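import Groth.Agent.Lib.GeomReg18.Algebra
import Groth.Agent.Lib.GenSmooth18.Rank
import Groth.Agent.Lib.DimF18.Affine
import Mathlib.RingTheory.Etale.Kaehler
import Mathlib.RingTheory.Smooth.Kaehler
import Mathlib.Algebra.Module.SpanRankOperations
import Mathlib.RingTheory.Kaehler.TensorProduct
import Mathlib.AlgebraicGeometry.Pullbacks

/-!
Smoothness over a field detected by the rank of the differentials.
-/

set_option backward.isDefEq.respectTransparency.types false

universe u

open TensorProduct IsLocalRing KaehlerDifferential CategoryTheory AlgebraicGeometry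

namespace Groth.Agent.SmoothRank1

/-- Over a perfect field the conormal sequence of the closed point is short exact. -/
theorem finrank_residue_tensor_kaehler (k A : Type u) [Field k] [PerfectField k] [CommRing A]
    [IsLocalRing A] [IsNoetherianRing A] [Algebra k A] [Algebra.EssFiniteType k (ResidueField A)]
    [Module.Finite A Ω[A⁄k]] :
    Module.finrank (ResidueField A) (ResidueField A ⊗[A] Ω[A⁄k]) =
      Module.finrank (ResidueField A) (CotangentSpace A) +
        Cardinal.toNat (Algebra.trdeg k (ResidueField A)) := by
  have hres : Function.Surjective (algebraMap A (ResidueField A)) := residue_surjective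
  have hsec : ∃ g : ResidueField A →ₐ[k] A ⧸ RingHom.ker (IsScalarTower.toAlgHom k A (ResidueField A)) ^ 2,
      (IsScalarTower.toAlgHom k A (ResidueField A)).kerSquareLift.comp g = AlgHom.id k _ := by
    haveI : Algebra.FormallySmooth k (ResidueField A) := Algebra.FormallySmooth.of_perfectField
    have hs : Function.Surjective (IsScalarTower.toAlgHom k A (ResidueField A)).kerSquareLift :=
      Function.Surjective.of_comp (g := Ideal.Quotient.mk _) hres
    have hn : IsNilpotent (RingHom.ker (IsScalarTower.toAlgHom k A (ResidueField A)).kerSquareLift.toRingHom) := ⟨2, by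
      rw [show RingHom.ker (IsScalarTower.toAlgHom k A (ResidueField A)).kerSquareLift.toRingHom = _ from
        AlgHom.ker_kerSquareLift _, Ideal.cotangentIdeal_square]; rfl⟩
    exact ⟨Algebra.FormallySmooth.liftOfSurjective (AlgHom.id k _) _ hs hn,
      Algebra.FormallySmooth.comp_liftOfSurjective (AlgHom.id k _) _ hs hn⟩
  obtain ⟨g, hg⟩ := hsec
  obtain ⟨l, hl⟩ := (retractionKerCotangentToTensorEquivSection (R := k) hres).symm ⟨g, hg⟩
  have hinj : Function.Injective (kerCotangentToTensor k A (ResidueField A)) :=
    Function.LeftInverse.injective (g := l) fun x => LinearMap.congr_fun hl x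
  obtain ⟨δ, hδi, hδe⟩ : ∃ δ : (maximalIdeal A).Cotangent →ₗ[A] ResidueField A ⊗[A] Ω[A⁄k],
      Function.Injective δ ∧ Function.Exact δ (mapBaseChange k A (ResidueField A)) := by
    have key : ∀ I : Ideal A, RingHom.ker (algebraMap A (ResidueField A)) = I →
        ∃ δ : I.Cotangent →ₗ[A] ResidueField A ⊗[A] Ω[A⁄k],
          Function.Injective δ ∧ Function.Exact δ (mapBaseChange k A (ResidueField A)) := by
      rintro I rfl
      exact ⟨_, hinj, exact_kerCotangentToTensor_mapBaseChange k A _ hres⟩
    exact key _ (IsLocalRing.ker_residue (R := A))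
  let δ' : CotangentSpace A →ₗ[ResidueField A] ResidueField A ⊗[A] Ω[A⁄k] :=
    LinearMap.extendScalarsOfSurjective hres δ
  let π := mapBaseChange k A (ResidueField A)
  have hπ : Function.Surjective π := mapBaseChange_surjective k A _ hres
  have h1 := π.finrank_range_add_finrank_ker
  have hker : LinearMap.ker π = LinearMap.range δ' := LinearMap.exact_iff.1 (show Function.Exact δ' π from hδe)
  rw [LinearMap.range_eq_top.2 hπ, finrank_top, hker,
    LinearMap.finrank_range_of_inj (f := δ') hδi] at h1
  rw [← h1, add_comm]
  congr 1
  rw [← GenSmooth18.rank_kaehler_eq_trdeg k (ResidueField A)]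
  rfl

variable {k S : Type u} [Field k] [CommRing S] [Algebra k S] [Algebra.FiniteType k S]

/-- Differentials at a prime and at the local ring. -/
theorem finrank_localization (q : Ideal S) [q.IsPrime] :
    Module.finrank q.ResidueField (q.ResidueField ⊗[S] Ω[S⁄k]) =
      Module.finrank (ResidueField (Localization.AtPrime q))
        (ResidueField (Localization.AtPrime q) ⊗[Localization.AtPrime q] Ω[Localization.AtPrime q⁄k]) := by
  haveI : Algebra.FormallyEtale S (Localization.AtPrime q) := .of_isLocalization q.primeCompl
  let T := Localization.AtPrime q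
  exact ((AlgebraTensorModule.cancelBaseChange S T q.ResidueField q.ResidueField Ω[S⁄k]).symm.trans
    (AlgebraTensorModule.congr (LinearEquiv.refl q.ResidueField q.ResidueField)
      (tensorKaehlerEquivOfFormallyEtale k S T))).finrank_eq

/-- The criterion over a perfect field. -/
theorem isSmoothAt_iff_of_perfect [PerfectField k] (q : Ideal S) [q.IsPrime] :
    Algebra.IsSmoothAt k q ↔
      ((Module.finrank q.ResidueField (q.ResidueField ⊗[S] Ω[S⁄k]) : ℕ∞) : WithBot ℕ∞) ≤
        FlatMor.localDim (PrimeSpectrum S) ⟨q, inferInstance⟩ := by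
  haveI : IsNoetherianRing S := Algebra.FiniteType.isNoetherianRing k S
  haveI : Algebra.EssFiniteType k (ResidueField (Localization.AtPrime q)) :=
    Algebra.EssFiniteType.comp k S q.ResidueField
  haveI : Algebra.FormallyEtale S (Localization.AtPrime q) := .of_isLocalization q.primeCompl
  haveI : Module.Finite (Localization.AtPrime q) Ω[Localization.AtPrime q⁄k] :=
    Module.Finite.equiv (tensorKaehlerEquivOfFormallyEtale k S (Localization.AtPrime q))
  rw [GeomReg18.isSmoothAt_iff_regular_of_perfect, finrank_localization,
    finrank_residue_tensor_kaehler k (Localization.AtPrime q),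
    DimF18.localDim_spec k S ⟨q, inferInstance⟩]
  have ht : Cardinal.toNat (Algebra.trdeg k (ResidueField (Localization.AtPrime q))) =
      VarDim.tdeg k (S ⧸ q) := by
    change Cardinal.toNat (Algebra.trdeg k q.ResidueField) = _
    rw [DimF18.trdeg_residueField_eq k S ⟨q, inferInstance⟩, Cardinal.toNat_natCast]
  rw [ht, ← IsLocalRing.spanFinrank_maximalIdeal_eq_finrank_cotangentSpace]
  constructor
  · intro h
    rw [← IsRegularLocalRing.spanFinrank_maximalIdeal (R := Localization.AtPrime q)]
    push_cast
    exact le_rfl
  · intro h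
    refine IsRegularLocalRing.of_spanFinrank_maximalIdeal_le _ ?_
    have h' : ((maximalIdeal (Localization.AtPrime q)).spanFinrank : WithBot ℕ∞) +
        ((VarDim.tdeg k (S ⧸ q) : ℕ) : WithBot ℕ∞) ≤
        ringKrullDim (Localization.AtPrime q) + ((VarDim.tdeg k (S ⧸ q) : ℕ) : WithBot ℕ∞) := by
      push_cast at h
      exact h
    exact DepthLib.withBot_add_coe_cancel _ h'

attribute [local instance] Algebra.TensorProduct.rightAlgebra

/-- The criterion over an arbitrary field. -/
theorem isSmoothAt_iff (q : Ideal S) [q.IsPrime] :
    Algebra.IsSmoothAt k q ↔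
      ((Module.finrank q.ResidueField (q.ResidueField ⊗[S] Ω[S⁄k]) : ℕ∞) : WithBot ℕ∞) ≤
        FlatMor.localDim (PrimeSpectrum S) ⟨q, inferInstance⟩ := by
  haveI : Algebra.FinitePresentation k S := Algebra.FinitePresentation.of_finiteType.mp inferInstance
  let K := AlgebraicClosure k
  let S' := K ⊗[k] S
  haveI : Module.FaithfullyFlat S S' :=
    Module.FaithfullyFlat.of_linearEquiv _ _ (Algebra.TensorProduct.commRight k S K).toLinearEquiv.symm
  obtain ⟨⟨Q, hQ⟩, hQq⟩ := PrimeSpectrum.comap_surjective_of_faithfullyFlat (A := S) (B := S') ⟨q, inferInstance⟩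
  have hQq' : Q.comap (algebraMap S S') = q := congrArg PrimeSpectrum.asIdeal hQq
  haveI := hQ
  letI : Algebra q.ResidueField Q.ResidueField :=
    (Ideal.ResidueField.map q Q (algebraMap S S') hQq'.symm).toAlgebra
  haveI : IsScalarTower S q.ResidueField Q.ResidueField := IsScalarTower.of_algebraMap_eq fun x => by
    rw [RingHom.algebraMap_toAlgebra, Ideal.ResidueField.map_algebraMap,
      ← IsScalarTower.algebraMap_apply S S' Q.ResidueField]
  have hfin : Module.finrank Q.ResidueField (Q.ResidueField ⊗[S'] Ω[S'⁄K]) =
      Module.finrank q.ResidueField (q.ResidueField ⊗[S] Ω[S⁄k]) := by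
    haveI : Algebra.IsPushout k K S S' := inferInstance
    haveI : Algebra.IsPushout k S K S' := Algebra.IsPushout.symm inferInstance
    have hb := KaehlerDifferential.isBaseChange k K S S'
    let e : S' ⊗[S] Ω[S⁄k] ≃ₗ[S'] Ω[S'⁄K] := KaehlerDifferential.tensorKaehlerEquiv k K S S'
    rw [← Module.finrank_baseChange (R := Q.ResidueField) (S := q.ResidueField)
      (M' := q.ResidueField ⊗[S] Ω[S⁄k])]
    exact (((AlgebraTensorModule.congr (LinearEquiv.refl Q.ResidueField Q.ResidueField) e.symm).trans
      (AlgebraTensorModule.cancelBaseChange S S' Q.ResidueField Q.ResidueField Ω[S⁄k])).trans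
      (AlgebraTensorModule.cancelBaseChange S q.ResidueField Q.ResidueField Q.ResidueField Ω[S⁄k]).symm).finrank_eq
  have hdim : FlatMor.localDim (PrimeSpectrum S') ⟨Q, hQ⟩ =
      FlatMor.localDim (PrimeSpectrum S) ⟨q, inferInstance⟩ := by
    have sq := isPullback_SpecMap_of_isPushout (CommRingCat.ofHom (algebraMap k S))
      (CommRingCat.ofHom (algebraMap k K)) (CommRingCat.ofHom (algebraMap S S'))
      (CommRingCat.ofHom (algebraMap K S')) (CommRingCat.isPushout_of_isPushout k S K S')
    haveI : LocallyOfFiniteType (Spec.map (CommRingCat.ofHom (algebraMap k S))) :=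
      (HasRingHomProperty.Spec_iff (P := @LocallyOfFiniteType)).2 (RingHom.finiteType_algebraMap.2 inferInstance)
    rw [← hQq]
    exact DimF18.localDim_bc sq (⟨Q, hQ⟩ : Spec (CommRingCat.of S'))
  have hsm : Algebra.IsSmoothAt k q ↔ Algebra.IsSmoothAt K Q := by
    constructor
    · intro h
      obtain ⟨f, hf, hsm⟩ := Algebra.IsSmoothAt.exists_notMem_smooth (R := k) q
      haveI := hsm
      haveI : Algebra.FinitePresentation K S' := inferInstance
      have hfQ : algebraMap S S' f ∉ Q := fun hm => hf (hQq' ▸ hm)
      let T := Localization.Away f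
      let T' := Localization.Away (algebraMap S S' f)
      haveI : Algebra.FormallySmooth K T' := by
        let X := S' ⊗[S] T
        haveI : IsScalarTower k T X := IsScalarTower.of_algebraMap_eq fun r => by
          rw [IsScalarTower.algebraMap_apply k S T, ← IsScalarTower.algebraMap_apply S T X,
            IsScalarTower.algebraMap_apply S S' X, ← IsScalarTower.algebraMap_apply k S S',
            ← IsScalarTower.algebraMap_apply k S' X]
        haveI : Algebra.IsPushout k S K S' := Algebra.IsPushout.symm inferInstance
        haveI : Algebra.IsPushout S T S' X := Algebra.IsPushout.symm inferInstance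
        haveI : Algebra.IsPushout k T K X :=
          (Algebra.IsPushout.comp_iff (R := k) (S := S) (R' := K) (S' := S') (T := T) (T' := X)).2 inferInstance
        haveI : Algebra.IsPushout k K T X := Algebra.IsPushout.symm inferInstance
        haveI : Algebra.FormallySmooth K X :=
          Algebra.FormallySmooth.of_equiv (Algebra.IsPushout.equiv k K T X)
        haveI : IsLocalization.Away (algebraMap S S' f) X := IsLocalization.Away.tensor (r := f) T
        exact Algebra.FormallySmooth.of_equiv
          ((IsLocalization.algEquiv (Submonoid.powers (algebraMap S S' f)) X T').restrictScalars K)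
      exact (Algebra.basicOpen_subset_smoothLocus_iff.2 this)
        (show (⟨Q, hQ⟩ : PrimeSpectrum S') ∈ PrimeSpectrum.basicOpen (algebraMap S S' f) from hfQ)
    · intro h
      have := Descend.smoothLocus_of_baseChange (A := k) (B := S) (A' := K) ⟨Q, hQ⟩ h
      rw [show PrimeSpectrum.comap (Algebra.TensorProduct.includeRight (R := k) (A := K) (B := S)).toRingHom
        ⟨Q, hQ⟩ = ⟨q, inferInstance⟩ from hQq] at this
      exact this
  rw [hsm, ← hfin, ← hdim]
  exact isSmoothAt_iff_of_perfect Q

end Groth.Agent.SmoothRank1
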